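import Mathlib
import Cfsg.Agent.Lib.CT.A2

/-!
# Group-theoretic lemmas for amalgam presentations

A Heisenberg-type commutator lemma, the transfer of a chain relation along the big cell of `SL₂`, gluing of a
system of root elements from homomorphisms on closed sets of roots, and (R3) across a double bond.
-/

set_option autoImplicit false

namespace CfsgLib.CT

open CfsgLib.RGD CfsgLib.ClSys

section Group

variable {F : Type*} [Field F] {G : Type*} [Group G]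

theorem plane_induction {P : F × F → Prop} (h0 : ∀ s, P (s, 0))
    (h1 : ∀ s r t, P (s, r) → P (s + t * r, r)) (h2 : ∀ s r t, P (s, r) → P (s, r - t * s)) (v : F × F) :
    P v := by
  have k : ∀ s r, s ≠ 0 → P (s, r) := fun s r hs => by
    have := h2 s 0 (-(r / s)) (h0 s)
    rwa [show 0 - -(r / s) * s = r by field_simp; ring] at this
  obtain ⟨s, r⟩ := v
  by_cases hs : s = 0
  · by_cases hr : r = 0
    · exact hr ▸ h0 s
    · have := h1 r r (-1) (k r r hr)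
      rwa [show r + -1 * r = s by rw [hs]; ring] at this
  · exact k s r hs

/-- If parallel vectors commute, the commutator depends only on the determinant and is central. -/
theorem heisenberg {A B : F × F → G}
    (hA : ∀ v v', ∃ z, (∀ w, Commute z (B w)) ∧ A (v + v') = A v * A v' * z)
    (hB : ∀ w w', ∃ z, (∀ v, Commute z (A v)) ∧ B (w + w') = B w * B w' * z)
    (hp : ∀ (v : F × F) (a b : F), Commute (A (a • v)) (B (b • v))) :
    ∃ C : F → G, (∀ v w, A v * B w * (A v)⁻¹ * (B w)⁻¹ = C (v.1 * w.2 - v.2 * w.1)) ∧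
      (∀ t u, C (t + u) = C t * C u) ∧ (∀ t v, Commute (C t) (A v)) ∧ ∀ t w, Commute (C t) (B w) := by
  let c : F × F → F × F → G := fun v w => A v * B w * (A v)⁻¹ * (B w)⁻¹
  have c0 : ∀ (v : F × F) (a b : F), c (a • v) (b • v) = 1 := fun v a b => by
    simp only [c, (hp v a b).eq]; group
  have a1 : ∀ v v' w, c (v + v') w = A v * c v' w * (A v)⁻¹ * c v w := fun v v' w => by
    obtain ⟨z, hz, e⟩ := hA v v'
    have : z * B w * z⁻¹ = B w := by rw [(hz w).eq]; group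
    simp only [c, e]
    calc _ = A v * A v' * (z * B w * z⁻¹) * (A v')⁻¹ * (A v)⁻¹ * (B w)⁻¹ := by group
      _ = _ := by rw [this]; group
  have a2 : ∀ v w w', c v (w + w') = c v w * (B w * c v w' * (B w)⁻¹) := fun v w w' => by
    obtain ⟨z, hz, e⟩ := hB w w'
    have : z * (A v)⁻¹ * z⁻¹ = (A v)⁻¹ := by rw [(hz v).inv_right.eq]; group
    simp only [c, e]
    calc _ = A v * B w * B w' * (z * (A v)⁻¹ * z⁻¹) * (B w')⁻¹ * (B w)⁻¹ := by group
      _ = _ := by rw [this]; group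
  have m1 : ∀ v w (a : F), c (v + a • w) w = c v w := fun v w a => by
    have := c0 w a 1
    rw [one_smul] at this
    rw [a1, this]; group
  have m2 : ∀ v w (a : F), c v (w + a • v) = c v w := fun v w a => by
    have := c0 v 1 a
    rw [one_smul] at this
    rw [a2, this]; group
  have k1 : ∀ v w : F × F, w.1 ≠ 0 → v.1 * w.2 - v.2 * w.1 ≠ 0 →
      c v w = c (1, 0) (0, v.1 * w.2 - v.2 * w.1) := by
    rintro ⟨p, q⟩ ⟨r, s⟩ hr hd
    dsimp only at hr hd ⊢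
    rw [← m1 _ _ ((1 - p) / r), ← m2 _ _ (-r), ← m1 _ _ (-(q + (1 - p) / r * s) / (p * s - q * r))]
    congr 1 <;> ext <;> simp <;> field_simp <;> ring
  have key : ∀ v w : F × F, c v w = c (1, 0) (0, v.1 * w.2 - v.2 * w.1) := by
    rintro ⟨p, q⟩ ⟨r, s⟩
    by_cases hd : p * s - q * r = 0
    · have h1 : c (1, 0) (0, 0) = 1 := by simpa [← Prod.mk_zero_zero] using c0 (1, 0) 1 0
      dsimp only
      rw [hd, h1]
      by_cases hp0 : p = 0
      · by_cases hq : q = 0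
        · simpa [hp0, hq, ← Prod.mk_zero_zero] using c0 (r, s) 0 1
        · have hr : r = 0 := by simpa [hp0, hq] using hd
          simpa [hp0, hr] using c0 (0, 1) q s
      · have := c0 (p, q) 1 (r / p)
        rwa [one_smul, show (r / p) • (p, q) = (r, s) by
          ext <;> simp <;> field_simp <;> linear_combination -hd] at this
    by_cases hr : r = 0
    · have hp0 : p ≠ 0 := fun h => hd (by simp [h, hr])
      rw [← m2 _ _ 1, k1 _ _ (by simpa [hr] using hp0) (by simpa [hr, mul_add, mul_comm] using hd)]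
      congr 2; simp; ring
    · exact k1 _ _ hr hd
  have ex : ∀ (v : F × F) (t : F), ∃ (w v' : F × F) (a : F), v = a • w ∧ v'.1 * w.2 - v'.2 * w.1 = t := by
    rintro ⟨p, q⟩ t
    by_cases hp0 : p = 0
    · exact ⟨(0, 1), (t, 0), q, by simp [hp0], by simp⟩
    · exact ⟨(p, q), (0, -(t / p)), 1, by simp, by simp [hp0]⟩
  have cA : ∀ t v, Commute (c (1, 0) (0, t)) (A v) := fun t v => by
    obtain ⟨w, v', a, rfl, rfl⟩ := ex v t
    have h1 := a1 (a • w) v' w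
    have h2 := c0 w a 1
    rw [one_smul] at h2
    rw [add_comm, m1, h2, mul_one, key] at h1
    exact (mul_inv_eq_iff_eq_mul.1 h1.symm).symm
  refine ⟨fun t => c (1, 0) (0, t), key, fun t u => ?_, cA, fun t w => ?_⟩
  · have h1 := a1 (u, 0) (t, 0) (0, 1)
    rw [key (_ + _), key (u, 0), key (t, 0)] at h1
    simp only [Prod.fst_add, Prod.snd_add, mul_one, mul_zero, sub_zero] at h1
    beta_reduce
    rw [add_comm, h1, ← (cA t _).eq, mul_inv_cancel_right]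
  · obtain ⟨v, w', a, rfl, rfl⟩ := ex w (-t) |>.imp fun v h => h.imp fun w' h => h.imp fun a h =>
      (⟨h.1, by linear_combination -h.2⟩ : w = a • v ∧ v.1 * w'.2 - v.2 * w'.1 = t)
    have h1 := a2 v (a • v) w'
    have h2 := c0 v 1 a
    rw [one_smul] at h2
    rw [add_comm, m2, h2, one_mul, key] at h1
    exact (mul_inv_eq_iff_eq_mul.1 h1.symm).symm

/-- transfer of a chain relation along the big cell of `SL₂` -/
theorem chain_of_cell (hF : ∃ a : F, a ≠ 0 ∧ a ≠ 1) {a b p q : F → G}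
    (hp : ∀ t u, p (t + u) = p t * p u)
    (h1 : ∀ t u, a t * p u * (a t)⁻¹ * (p u)⁻¹ = q (t * u)) (c1 : ∀ t u, Commute (b t) (p u))
    (c2 : ∀ t u, Commute (q t) (p u))
    (hc : ∀ s t, 1 + s * t ≠ 0 → ∃ h s', b s * a t = a (t / (1 + s * t)) * h * b s' ∧
      ∀ u, h * p u * h⁻¹ = p ((1 + s * t) * u)) (s v : F) :
    b s * q v * (b s)⁻¹ * (q v)⁻¹ = p (s * v) := by
  obtain ⟨t, ht, hst⟩ : ∃ t : F, t ≠ 0 ∧ 1 + s * t ≠ 0 := by
    obtain ⟨x, h0, hx⟩ := hF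
    by_cases h : 1 + s * 1 = 0
    · refine ⟨x, h0, fun e => hx ?_⟩
      linear_combination x * h - e
    · exact ⟨1, one_ne_zero, h⟩
  obtain ⟨h, s', e, hh⟩ := hc s t hst
  obtain ⟨u, rfl⟩ : ∃ u, v = t * u := ⟨v / t, by field_simp⟩
  have e1 : b s * a t * p u * (b s * a t)⁻¹ = b s * q (t * u) * (b s)⁻¹ * p u := by
    rw [← h1, mul_assoc _ (b s)⁻¹, (c1 s u).inv_left.eq]; group
  have e2 : b s * a t * p u * (b s * a t)⁻¹ = q (t * u) * p ((1 + s * t) * u) := by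
    have := h1 (t / (1 + s * t)) ((1 + s * t) * u)
    rw [← mul_assoc (t / _), div_mul_cancel₀ _ hst] at this
    rw [e, ← this, ← hh]
    calc _ = a (t / (1 + s * t)) * h * (b s' * p u * (b s')⁻¹) * h⁻¹ * (a (t / (1 + s * t)))⁻¹ := by group
      _ = _ := by rw [(c1 s' u).eq]; group
  rw [e1, show (1 + s * t) * u = s * (t * u) + u by ring, hp, ← mul_assoc, mul_left_inj] at e2
  rw [e2, (c2 _ _).eq, mul_inv_cancel_right]

end Group

variable {ι κ : Type} [Fintype κ] [DecidableEq κ] {Φ : RootSys ι κ} {F : Type*} [Field F]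
  {Γ G₀ G : Type*} [Group Γ] [Group G₀] [Group G]

/-- gluing of homomorphisms defined on the subgroups of closed sets of roots -/
theorem exists_stSys_of_cover [Finite ι] {S₀ : StSys Φ F G₀} (hS₀ : S₀.Nondeg) (hg : GenS S₀) {C : Type*}
    (Ψ : C → Set ι) (g : C → G₀ → Γ) (hm : ∀ c, MulOn (S₀.UU (Ψ c)) (g c))
    (hcl : ∀ c r s k, r ∈ Ψ c → s ∈ Ψ c → Φ.IsSum r s k → k ∈ Ψ c)
    (hcov : ∀ r s, s ≠ Φ.neg r → ∃ c, r ∈ Ψ c ∧ s ∈ Ψ c)
    (hag : ∀ c c', ∀ r ∈ Ψ c, r ∈ Ψ c' → ∀ t, g c (S₀.x r t) = g c' (S₀.x r t)) :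
    ∃ S : StSys Φ F (Γ × G₀), (∀ r t, (S.x r t).2 = S₀.x r t) ∧
      ∀ c, ∀ r ∈ Ψ c, ∀ t, (S.x r t).1 = g c (S₀.x r t) := by
  have : ∀ r, ∃ c, r ∈ Ψ c := fun r => (hcov r r (Φ.neg_ne r).symm).imp fun _ h => h.1
  choose c hc using this
  let y : ι → F → Γ × G₀ := fun r t => (g (c r) (S₀.x r t), S₀.x r t)
  have hy : ∀ d, ∀ r ∈ Ψ d, ∀ t, y r t = (g d (S₀.x r t), S₀.x r t) := fun d r hr t =>
    Prod.ext (hag _ _ r (hc r) hr t) rfl
  have hm' : ∀ d, MulOn (S₀.UU (Ψ d)) fun a => (g d a, a) := fun d a ha b hb =>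
    Prod.ext (hm d a ha b hb) rfl
  refine ⟨liftSys (x := y) (fun r t u => ?_) (fun r s h1 h2 t u => ?_) hS₀ hg (MonoidHom.snd _ _)
    fun _ _ => rfl, fun _ _ => rfl, fun d r hr t => congrArg Prod.fst (hy d r hr t)⟩
  · simp only [y, S₀.x_add]
    exact hm' _ _ (S₀.x_mem_UU (hc r) t) _ (S₀.x_mem_UU (hc r) u)
  · obtain ⟨d, hr, hs⟩ := hcov r s h2
    have m1 := S₀.x_mem_UU hr t
    have m2 := S₀.x_mem_UU hs u
    have := (hm' d).mem_of_closure (M := Stein.UUx y {k | Φ.IsSum r s k}) ?_ ?_ (S₀.comm r s h1 h2 t u)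
    · rw [hy d r hr, hy d s hs]
      convert this using 1
      refine Prod.ext ?_ rfl
      dsimp only
      rw [hm d _ (mul_mem (mul_mem (inv_mem m2) (inv_mem m1)) m2) _ m1,
        hm d _ (mul_mem (inv_mem m2) (inv_mem m1)) _ m2, hm d _ (inv_mem m2) _ (inv_mem m1),
        (hm d).inv m2, (hm d).inv m1]
      rfl
    · rintro _ ⟨k, e, hk, rfl⟩
      exact S₀.x_mem_UU (hcl d r s k hr hs hk) e
    · rintro _ ⟨k, e, hk, rfl⟩
      rw [← hy d k (hcl d r s k hr hs hk)]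
      exact Stein.mem_UUx y hk e

/-- (R3) passes from the long to the short node of a double bond -/
theorem r3_of_bond {S : StSys Φ F G} (hR : Stein.HRule S) {i j : κ} (h1 : Φ.wt j (Φ.simple i) = -1)
    (h2 : Φ.wt j (Φ.s i (Φ.simple j)) = 0)
    (h3 : ∀ c d, c ≠ 0 → d ≠ 0 → S.h (Φ.simple j) c * S.h (Φ.simple j) d = S.h (Φ.simple j) (c * d))
    (c d : F) (hc : c ≠ 0) (hd : d ≠ 0) :
    S.h (Φ.simple i) c * S.h (Φ.simple i) d = S.h (Φ.simple i) (c * d) := by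
  set n := S.n (Φ.simple i) 1 with hn
  set φ := S.h (Φ.simple j)
  have e1 : ∀ c, c ≠ 0 → S.h (Φ.simple i) c = φ c⁻¹ * (n * φ c⁻¹ * n⁻¹)⁻¹ := fun c hc => by
    have k1 := hR j (Φ.simple i) c⁻¹ 1 (inv_ne_zero hc)
    have k2 := hR j (Φ.neg (Φ.simple i)) c⁻¹ (-1⁻¹) (inv_ne_zero hc)
    rw [Φ.wt_neg] at k2
    rw [h1] at k1 k2
    have : φ c⁻¹ * n * (φ c⁻¹)⁻¹ = S.n (Φ.simple i) c := by
      calc _ = (φ c⁻¹ * S.x (Φ.simple i) 1 * (φ c⁻¹)⁻¹) * (φ c⁻¹ * S.x (Φ.neg (Φ.simple i)) (-1⁻¹) * (φ c⁻¹)⁻¹) *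
            (φ c⁻¹ * S.x (Φ.simple i) 1 * (φ c⁻¹)⁻¹) := by rw [hn, StSys.n]; group
        _ = _ := by rw [k1, k2, StSys.n]; simp
    rw [S.h_eq, ← this, ← hn]; group
  have e2 : ∀ c d, c ≠ 0 → Commute (φ c) (n * φ d * n⁻¹) := fun c d hc => by
    obtain ⟨l, -, e⟩ := (S.acts_n_simple i one_ne_zero).exists_conj_n (Φ.s_mem_W i) (Φ.simple j)
    have k : ∀ r, Φ.wt j r = 0 → ∀ u, Commute (φ c) (S.x r u) := fun r hr u => by
      have := hR j r c u hc
      rw [hr, zpow_zero, one_mul] at this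
      exact mul_inv_eq_iff_eq_mul.1 this
    have k' : ∀ u, Commute (φ c) (S.n (Φ.s i (Φ.simple j)) u) := fun u =>
      ((k _ h2 _).mul_right (k _ (by rw [Φ.wt_neg, h2, neg_zero]) _)).mul_right (k _ h2 _)
    have : n * φ d * n⁻¹ = (n * S.n (Φ.simple j) d * n⁻¹) * (n * S.n (Φ.simple j) (-1) * n⁻¹) := by
      simp only [φ, StSys.h]; group
    rw [this, e, e]
    exact (k' _).mul_right (k' _)
  have hc' := inv_ne_zero hc
  have hd' := inv_ne_zero hd
  have e3 : (n * φ c⁻¹ * n⁻¹)⁻¹ * (n * φ d⁻¹ * n⁻¹)⁻¹ = (n * φ (c * d)⁻¹ * n⁻¹)⁻¹ := by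
    rw [mul_inv_rev c d, ← h3 _ _ hd' hc']; group
  rw [e1 c hc, e1 d hd, e1 _ (mul_ne_zero hc hd), ← e3, mul_inv c d, ← h3 _ _ hc' hd', mul_assoc,
    ← mul_assoc _ (φ d⁻¹), ← (e2 _ _ hd').inv_right.eq]
  simp only [mul_assoc]

end CfsgLib.CT
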