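import Mathlib
import Cfsg.Agent.Lib.CT.SpEmb
import Cfsg.Agent.Lib.CT.Heis

/-!
# `Sp₄` as an amalgam of two derived parabolic subgroups
-/

set_option autoImplicit false

namespace CfsgLib.CT

open CfsgLib.RGD CfsgLib.ClSys CfsgLib.Symp CfsgLib.Forms Matrix

variable {F : Type*} [Field F] {m : ℕ} {Γ : Type*} [Group Γ]

theorem spT_eq_x (a : II m) (t : F) : spT (bv F a) t = (spSys m F).x (.inr a) (eta (-1) a * t) := by
  rw [spSys_x_inr, ← mul_assoc, eta_sq (by ring), one_mul]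

theorem spE_eq_x (r : MidR m) (t : F) :
    spE (bv F r.1.1) (t • bv F r.1.2) = (spSys m F).x (.inl r) (eta (-1) r.1.2 * t) := by
  rw [spSys_x_inl, ← mul_assoc, eta_sq (by ring), one_mul]

theorem conj_n_long (c : II m) : ∃ L : RBC m → F, (∀ s, L s ≠ 0) ∧ ∀ s t,
    (spSys m F).n (.inr c) 1 * (spSys m F).x s t * ((spSys m F).n (.inr c) 1)⁻¹ =
      (spSys m F).x (permBC (reflE c) s) (L s * t) := by
  obtain ⟨π', l, h⟩ := exists_mono_nC (ι := iota m) (F := F) (.inr c) one_ne_zero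
  obtain ⟨L, h1, h2⟩ := h.acts_xC
  exact ⟨L, fun s => left_ne_zero_of_mul_eq_one (h1 s), fun s t => spToSL_injective (by
    rw [map_mul, map_mul, map_inv, Stein.map_n _ spToSL_x]; exact h2 s t)⟩

theorem conj_n_long_mem (c : II m) {Ψ Ψ' : Set (RBC m)} (h : ∀ s ∈ Ψ, permBC (reflE c) s ∈ Ψ')
    {u : symplecticGroup (Fin m) F} (hu : u ∈ (spSys m F).UU Ψ) :
    (spSys m F).n (.inr c) 1 * u * ((spSys m F).n (.inr c) 1)⁻¹ ∈ (spSys m F).UU Ψ' := by
  obtain ⟨L, -, e⟩ := conj_n_long (F := F) c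
  have : (spSys m F).UU Ψ ≤ ((spSys m F).UU Ψ').comap (MulAut.conj ((spSys m F).n (.inr c) 1)).toMonoidHom := by
    rw [StSys.UU, Subgroup.closure_le]
    rintro _ ⟨s, hs, t, rfl⟩
    have := (spSys m F).x_mem_UU (h s hs) (L s * t)
    rwa [← e] at this
  exact this hu

/-- the root `ε₀ + ε₁` -/
def m01 : MidR 2 := ⟨(.inl 0, .inl 1), by decide⟩

/-- the roots in a closed half plane -/
def half (c : II 2) : Set (RBC 2) := {r | 0 ≤ evBC 2 r ⬝ᵥ eps c}

instance decEqRBC2 : DecidableEq (RBC 2) := instDecidableEqSum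

instance fintypeRBC2 : Fintype (RBC 2) := instFintypeSum _ _

instance decHalf (c : II 2) (r : RBC 2) : Decidable (r ∈ half c) := inferInstanceAs (Decidable (0 ≤ evBC 2 r ⬝ᵥ eps c))

theorem half_closed (c : II 2) (r s k : RBC 2) (hr : r ∈ half c) (hs : s ∈ half c)
    (h : (rootC 2).IsSum r s k) : k ∈ half c := by
  obtain ⟨a, b, -, -, e⟩ := (epsBC 2 (k := 2) (Or.inr rfl)).isSum_iff.1 h
  change evBC 2 k = (a : ℤ) • evBC 2 r + (b : ℤ) • evBC 2 s at e
  change 0 ≤ evBC 2 k ⬝ᵥ eps c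
  rw [e, add_dotProduct, smul_dotProduct, smul_dotProduct]
  exact add_nonneg (mul_nonneg (by omega) hr) (mul_nonneg (by omega) hs)

theorem half_cover : ∀ r s : RBC 2, s ≠ Sum.map negM Sum.swap r → ∃ c, r ∈ half c ∧ s ∈ half c := by
  decide +kernel

theorem half_cases : ∀ (i : Fin 2) (r : RBC 2), r ∈ half (.inl i) → (∃ a, a ≠ .inr i ∧ r = .inr a) ∨
    r = .inl m01 ∨ r = permBC (reflE (.inl i.rev)) (.inl m01) := by decide +kernel

theorem half_refl : ∀ (i : Fin 2) (r : RBC 2), (r ∈ half (.inr i) → permBC (reflE (.inl i)) r ∈ half (.inl i)) ∧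
    ∀ c, c ≠ .inl i → c ≠ .inr i → r ∈ half c → permBC (reflE (.inl i)) r ∈ half c := by decide +kernel

theorem half_both : ∀ r : RBC 2, r ∈ half (.inl 0) → r ∈ half (.inl 1) →
    (∃ k, r = .inr (.inl k)) ∨ r = .inl m01 := by decide +kernel

theorem half_opp : ∀ (i : Fin 2) (r : RBC 2), r ∈ half (.inl i) → r ∈ half (.inr i) →
    r = .inr (.inl i.rev) ∨ r = .inr (.inr i.rev) := by decide +kernel

theorem half_long : ∀ (i : Fin 2) (a : II 2), a ≠ .inr i → .inr a ∈ half (.inl i) := by decide +kernel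

theorem UU_half_le {K : Subgroup (symplecticGroup (Fin 2) F)} {i : Fin 2}
    (h1 : ∀ a, a ≠ .inr i → ∀ t, spT (bv F a) t ∈ K)
    (h2 : ∀ t : F, spE (bv F (.inl 0)) (t • bv F (.inl 1)) ∈ K) : (spSys 2 F).UU (half (.inl i)) ≤ K := by
  have k1 : ∀ a, a ≠ .inr i → ∀ t, (spSys 2 F).x (.inr a) t ∈ K := fun a ha t =>
    (spSys_x_inr a t).symm ▸ h1 a ha _
  have k2 : ∀ t, (spSys 2 F).x (.inl m01) t ∈ K := fun t => (spSys_x_inl m01 t).symm ▸ h2 _
  rw [StSys.UU, Subgroup.closure_le]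
  rintro _ ⟨r, hr, t, rfl⟩
  rcases half_cases i r hr with ⟨a, ha, rfl⟩ | rfl | rfl
  · exact k1 a ha t
  · exact k2 t
  · obtain ⟨L, hL, e⟩ := conj_n_long (F := F) (.inl i.rev)
    have hn : (spSys 2 F).n (.inr (.inl i.rev)) 1 ∈ K :=
      mul_mem (mul_mem (k1 _ (by simp) _) (k1 (.inr i.rev) (by fin_cases i <;> simp) _)) (k1 _ (by simp) _)
    have := mul_mem (mul_mem hn (k2 ((L (.inl m01))⁻¹ * t))) (inv_mem hn)
    rwa [e, mul_inv_cancel_left₀ (hL _)] at this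

theorem sp4_gen {K : Subgroup (symplecticGroup (Fin 2) F)} (h1 : ∀ a t, spT (bv F a) t ∈ K)
    (h2 : ∀ t : F, spE (bv F (.inl 0)) (t • bv F (.inl 1)) ∈ K) : K = ⊤ := by
  rw [eq_top_iff, ← spSys_grp, grp_le_iff]
  have k := fun i => UU_half_le (i := i) (fun a _ => h1 a) h2
  intro i t
  fin_cases i
  · exact ⟨k 0 ((spSys 2 F).x_mem_UU (by decide +kernel) t), k 1 ((spSys 2 F).x_mem_UU (by decide +kernel) t)⟩
  · exact ⟨k 0 ((spSys 2 F).x_mem_UU (by decide +kernel) t), k 0 ((spSys 2 F).x_mem_UU (by decide +kernel) t)⟩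

theorem spSys_two_genS : GenS (spSys 2 F) := by
  have hP : ∀ j s, (rootC 2).Pos ((rootC 2).s j s) ↔ keyBC (permBC (reflBC (simpleBC j)) s) < 0 :=
    fun j s => rootBC_pos_iff _
  have mT : ∀ {Ψ : Set (RBC 2)} (a : II 2), .inr a ∈ Ψ → ∀ t, spT (bv F a) t ∈ (spSys 2 F).UU Ψ :=
    fun a h t => (spT_eq_x a t).symm ▸ (spSys 2 F).x_mem_UU h _
  have mE : ∀ {Ψ : Set (RBC 2)} (r : MidR 2), .inl r ∈ Ψ → ∀ t : F,
      spE (bv F r.1.1) (t • bv F r.1.2) ∈ (spSys 2 F).UU Ψ :=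
    fun r h t => (spE_eq_x r t).symm ▸ (spSys 2 F).x_mem_UU h _
  intro i
  fin_cases i
  · refine ⟨1, by decide, fun t => ?_⟩
    set K := (spSys 2 F).UU _
    have m1 : ∀ t, spT (bv F (.inr 1)) t ∈ K := mT _ ⟨(hP _ _).2 (by decide +kernel), by decide +kernel⟩
    have m2 : ∀ t, spT (bv F (.inl 0)) t ∈ K := mT _ ⟨(hP _ _).2 (by decide +kernel), by decide +kernel⟩
    have m3 : ∀ t : F, spE (bv F (.inl 0)) (t • bv F (.inl 1)) ∈ K :=
      mE m01 ⟨(hP _ _).2 (by decide +kernel), by decide +kernel⟩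
    have := mul_mem (mul_mem (m1 1) (m3 t)) (inv_mem (m1 1))
    rw [conj_spE, show spT (bv F (.inr 1)) 1 • bv F (.inl 0 : II 2) = bv F (.inl 0) by
        simp [spT_smul, spB_single_right],
      show spT (bv F (.inr 1)) 1 • t • bv F (.inl 1 : II 2) = t • bv F (.inl 1) + (-1 * t) • bv F (.inr 1) by
        simp [spT_smul, spB_single_right, eta],
      spE_add (by simp [spB_single_right]) (by simp [spB_single_right])] at this
    exact (spSys_x_inl (m := 2) (midS 0 (by decide)) t).symm ▸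
      (Subgroup.mul_mem_cancel_left _ (m3 t)).1 ((Subgroup.mul_mem_cancel_right _ (m2 _)).1 this)
  · refine ⟨0, by decide, fun t => ?_⟩
    set K := (spSys 2 F).UU _
    have m1 : ∀ t : F, spE (bv F (.inl 1)) (t • bv F (.inr 0)) ∈ K :=
      mE (negM (midS 0 (by decide))) ⟨(hP _ _).2 (by decide +kernel), by decide +kernel⟩
    have m2 : ∀ t, spT (bv F (.inl 0)) t ∈ K := mT _ ⟨(hP _ _).2 (by decide +kernel), by decide +kernel⟩
    have m3 : ∀ t : F, spE (bv F (.inl 0)) (t • bv F (.inl 1)) ∈ K :=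
      mE m01 ⟨(hP _ _).2 (by decide +kernel), by decide +kernel⟩
    have := mul_mem (mul_mem (m1 (-1)) (m2 (1 * t))) (inv_mem (m1 (-1)))
    rw [conj_spT, spE_smul (by simp [spB_single_right]),
      show bv F (.inl 0 : II 2) + _ + _ = bv F (.inl 0) + bv F (.inl 1) by simp [spB_single_right, eta],
      spT_add_vec (by simp [spB_single_right])] at this
    exact (spSys_x_inr (m := 2) (.inl 1) t).symm ▸
      (Subgroup.mul_mem_cancel_left _ (m2 _)).1 ((Subgroup.mul_mem_cancel_right _ (m3 _)).1 this)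

theorem eq_of_fix {B : symplecticGroup (Fin 2) F} (h : ∀ k, B • bv F (.inl k) = bv F (.inl k : II 2)) :
    ∃ p q r : F, B = spT (bv F (.inl 0)) p * spT (bv F (.inl 1)) q * spE (bv F (.inl 0)) (r • bv F (.inl 1)) := by
  have k : ∀ (j k : Fin 2), (B • bv F (.inr j : II 2)) (.inr k) = bv F (.inr j : II 2) (.inr k) := fun j k => by
    have := spB_smul_smul B (bv F (.inr j)) (bv F (.inl k))
    rwa [h, spB_single_inl_right, spB_single_inl_right] at this
  have k' := spB_smul_smul B (bv F (.inr 0)) (bv F (.inr 1))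
  rw [spB_eq_sum, Fin.sum_univ_two, k, k, k, k, spB_bv (by simp)] at k'
  refine ⟨(B • bv F (.inr 0 : II 2)) (.inl 0), (B • bv F (.inr 1 : II 2)) (.inl 1),
    (B • bv F (.inr 0 : II 2)) (.inl 1), sp_ext_bv ?_⟩
  rintro (j | j)
  · rw [h, mul_smul, mul_smul, spE_smul (by simp [spB_single_right])]
    simp [spT_smul, spB_single_right]
  · rw [mul_smul, mul_smul, spE_smul (by simp [spB_single_right])]
    ext (l | l)
    · fin_cases j <;> fin_cases l <;> simp [spT_smul, spB_single_right, eta] at k' ⊢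
      linear_combination k'
    · rw [k]; simp [spT_smul, spB_single_right]

/-- **`Sp₄` as an amalgam.** -/
theorem exists_hom_sp4 (K : Fin 2 → Subgroup (symplecticGroup (Fin 2) F))
    (s : Fin 2 → symplecticGroup (Fin 2) F → Γ) (hs : ∀ i, MulOn (K i) (s i))
    (h1 : ∀ i a, a ≠ .inr i → ∀ t, spT (bv F a) t ∈ K i)
    (h2 : ∀ i (t : F), spE (bv F (.inl 0)) (t • bv F (.inl 1)) ∈ K i)
    (e1 : ∀ k t, s 0 (spT (bv F (.inl k)) t) = s 1 (spT (bv F (.inl k)) t))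
    (e2 : ∀ t : F, s 0 (spE (bv F (.inl 0)) (t • bv F (.inl 1))) = s 1 (spE (bv F (.inl 0)) (t • bv F (.inl 1))))
    (hc : ∀ i a b, (a = .inl i ∨ a = .inr i) → (b = .inl i.rev ∨ b = .inr i.rev) → ∀ t u,
      Commute (s i.rev (spT (bv F a) t)) (s i (spT (bv F b) u))) :
    ∃ f : symplecticGroup (Fin 2) F →* Γ, (∀ i a, a ≠ .inr i → ∀ t, f (spT (bv F a) t) = s i (spT (bv F a) t)) ∧
      ∀ t : F, f (spE (bv F (.inl 0)) (t • bv F (.inl 1))) = s 0 (spE (bv F (.inl 0)) (t • bv F (.inl 1))) := by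
  obtain ⟨S, hS⟩ : ∃ S, S = spSys 2 F := ⟨_, rfl⟩
  have x1 : ∀ a t, S.x (.inr a) t = spT (bv F a) (eta (-1) a * t) := hS ▸ spSys_x_inr
  have hs' : ∀ i, MulOn (S.UU (half (.inl i))) (s i) := fun i =>
    (hs i).mono (hS ▸ UU_half_le (h1 i) (h2 i))
  obtain ⟨w, hw⟩ : ∃ w : Fin 2 → symplecticGroup (Fin 2) F, ∀ i, w i = S.n (.inr (.inl i)) 1 := ⟨_, fun _ => rfl⟩
  have hw' : ∀ i, w i = S.x (.inr (.inl i)) 1 * S.x (.inr (.inr i)) (-1⁻¹) * S.x (.inr (.inl i)) 1 := hw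
  have cm : ∀ (i : Fin 2) {Ψ Ψ' : Set (RBC 2)}, (∀ s ∈ Ψ, permBC (reflE (.inl i)) s ∈ Ψ') → ∀ {u}, u ∈ S.UU Ψ →
      w i * u * (w i)⁻¹ ∈ S.UU Ψ' := fun i _ _ h _ hu => by
    subst hS; rw [hw]; exact conj_n_long_mem _ h hu
  have hrev : ∀ i j : Fin 2, j ≠ i → j = i.rev := by decide
  have hne : ∀ i : Fin 2, i.rev ≠ i := by decide
  have mx : ∀ i a, a ≠ .inr i → ∀ t, S.x (.inr a) t ∈ S.UU (half (.inl i)) := fun i a ha t =>
    S.x_mem_UU (half_long i a ha) t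
  have mw : ∀ i, w i ∈ S.UU (half (.inl i.rev)) := fun i => by
    rw [hw']
    exact mul_mem (mul_mem (mx _ _ (by simp) _) (mx _ _ (by simpa using (hne i).symm) _)) (mx _ _ (by simp) _)
  have hc' : ∀ i b, (b = .inl i.rev ∨ b = .inr i.rev) → ∀ u, Commute (s i.rev (w i)) (s i (S.x (.inr b) u)) := by
    intro i b hb u
    have a1 := mx i.rev (.inl i) (by simp)
    have a2 := mx i.rev (.inr i) (by simpa using (hne i).symm)
    have : s i.rev (w i) = s i.rev (S.x (.inr (.inl i)) 1) * s i.rev (S.x (.inr (.inr i)) (-1⁻¹)) *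
        s i.rev (S.x (.inr (.inl i)) 1) := by
      rw [← hs' _ _ (a1 _) _ (a2 _), ← hs' _ _ (mul_mem (a1 _) (a2 _)) _ (a1 _), hw']
    rw [this]
    simp only [x1]
    exact ((hc i _ b (.inl rfl) hb _ _).mul_left (hc i _ b (.inr rfl) hb _ _)).mul_left (hc i _ b (.inl rfl) hb _ _)
  have cw : ∀ i b, (b = .inl i.rev ∨ b = .inr i.rev) → ∀ u, Commute (w i) (S.x (.inr b) u) := by
    intro i b hb u
    have : ∀ a, (a = .inl i ∨ a = .inr i) → ∀ t, Commute (S.x (.inr a) t) (S.x (.inr b) u) := fun a ha t => by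
      simp only [x1]
      refine commute_spT (spB_bv ?_) _ _
      rcases ha with rfl | rfl <;> rcases hb with rfl | rfl <;> simp [(hne i).symm]
    rw [hw']
    exact ((this _ (.inl rfl) _).mul_left (this _ (.inr rfl) _)).mul_left (this _ (.inl rfl) _)
  have hQ : ∀ q ∈ S.UU (half (.inl 0) ∩ half (.inl 1)), ∀ i j, s i q = s j q := by
    intro q hq
    have : s 0 q = s 1 q := by
      refine (hs' 0).eq_of_closure (hs' 1) ?_ ?_ ?_ hq <;> rintro _ ⟨r, hr, t, rfl⟩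
      · exact S.x_mem_UU hr.1 t
      · exact S.x_mem_UU hr.2 t
      · rcases half_both r hr.1 hr.2 with ⟨k, rfl⟩ | rfl
        · rw [x1]; exact e1 _ _
        · rw [hS, spSys_x_inl]; exact e2 _
    intro i j
    fin_cases i <;> fin_cases j
    exacts [rfl, this, this.symm, rfl]
  have cj : ∀ i x, x ∈ S.UU (half (.inl i.rev)) →
      s i.rev (w i * x * (w i)⁻¹) = s i.rev (w i) * s i.rev x * (s i.rev (w i))⁻¹ := fun i x hx => by
    rw [hs' _ _ (mul_mem (mw i) hx) _ (inv_mem (mw i)), hs' _ _ (mw i) _ hx, (hs' _).inv (mw i)]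
  have both : ∀ (i : Fin 2) r, r ∈ half (.inl i) → r ∈ half (.inl i.rev) → r ∈ half (.inl 0) ∩ half (.inl 1) := by
    intro i r a b
    fin_cases i
    exacts [⟨a, b⟩, ⟨b, a⟩]
  let g : II 2 → symplecticGroup (Fin 2) F → Γ :=
    Sum.elim s fun i x => (s i.rev (w i))⁻¹ * s i (w i * x * (w i)⁻¹) * s i.rev (w i)
  have A : ∀ i j, ∀ r ∈ half (.inl j), r ∈ half (.inr i) → ∀ t, g (.inl j) (S.x r t) = g (.inr i) (S.x r t) := by
    intro i j r hr hr' t
    simp only [g, Sum.elim_inl, Sum.elim_inr]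
    by_cases hij : j = i
    · subst hij
      obtain ⟨b, hb, rfl⟩ : ∃ b, (b = .inl j.rev ∨ b = .inr j.rev) ∧ r = .inr b := by
        rcases half_opp j r hr hr' with rfl | rfl
        exacts [⟨_, .inl rfl, rfl⟩, ⟨_, .inr rfl, rfl⟩]
      rw [(cw j b hb t).eq, mul_inv_cancel_right, mul_assoc, ← (hc' j b hb t).eq, inv_mul_cancel_left]
    · obtain rfl := hrev i j hij
      rw [hQ _ (cm i (Ψ := {r}) (by
        rintro k rfl
        exact both i _ ((half_refl i k).1 hr') ((half_refl i k).2 _ (by simpa using hij) (by simp) hr))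
        (S.x_mem_UU (Set.mem_singleton r) t)) i i.rev,
        cj i _ (S.x_mem_UU hr t)]
      group
  have B : ∀ r ∈ half (.inr 0), r ∈ half (.inr 1) → ∀ t, g (.inr 0) (S.x r t) = g (.inr 1) (S.x r t) := by
    intro r hr hr' t
    have c1 : Commute (w 0) (w 1) := by
      rw [hw' 1]
      exact ((cw 0 _ (.inl rfl) _).mul_right (cw 0 _ (.inr rfl) _)).mul_right (cw 0 _ (.inl rfl) _)
    have a1 := mx 0 (.inl 1) (by simp)
    have a2 := mx 0 (.inr 1) (by simp)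
    have c2 : Commute (s 1 (w 0)) (s 0 (w 1)) := by
      have : s 0 (w 1) = s 0 (S.x (.inr (.inl 1)) 1) * s 0 (S.x (.inr (.inr 1)) (-1⁻¹)) *
          s 0 (S.x (.inr (.inl 1)) 1) := by
        rw [← hs' _ _ (a1 _) _ (a2 _), ← hs' _ _ (mul_mem (a1 _) (a2 _)) _ (a1 _), hw']
      rw [this]
      exact ((hc' 0 _ (.inl rfl) _).mul_right (hc' 0 _ (.inr rfl) _)).mul_right (hc' 0 _ (.inl rfl) _)
    have m0 : w 0 * S.x r t * (w 0)⁻¹ ∈ S.UU (half (.inl 0) ∩ half (.inr 1)) :=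
      cm 0 (Ψ := {r}) (by
        rintro k rfl
        exact ⟨(half_refl 0 k).1 hr, (half_refl 0 k).2 _ (by simp) (by simp) hr'⟩) (S.x_mem_UU (Set.mem_singleton r) t)
    have m1 : w 1 * S.x r t * (w 1)⁻¹ ∈ S.UU (half (.inl 1)) :=
      cm 1 (Ψ := {r}) (by rintro k rfl; exact (half_refl 1 k).1 hr') (S.x_mem_UU (Set.mem_singleton r) t)
    have q1 := hQ _ (cm 1 (Ψ' := half (.inl 0) ∩ half (.inl 1)) (fun k hk => ⟨(half_refl 1 k).2 _ (by simp) (by simp) hk.1,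
      (half_refl 1 k).1 hk.2⟩) m0) 0 1
    have q2 : s 0 (w 1 * _ * (w 1)⁻¹) = s 0 (w 1) * s 0 _ * (s 0 (w 1))⁻¹ :=
      cj 1 _ (S.UU_mono Set.inter_subset_left m0)
    have q3 : s 1 (w 0 * _ * (w 0)⁻¹) = s 1 (w 0) * s 1 _ * (s 1 (w 0))⁻¹ := cj 0 _ m1
    have q4 : w 1 * (w 0 * S.x r t * (w 0)⁻¹) * (w 1)⁻¹ = w 0 * (w 1 * S.x r t * (w 1)⁻¹) * (w 0)⁻¹ := by
      calc _ = (w 1 * w 0) * S.x r t * (w 1 * w 0)⁻¹ := by group
        _ = _ := by rw [← c1.eq]; group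
    have q5 := q2.symm.trans (q1.trans ((congrArg (s 1) q4).trans q3))
    change (s 1 (w 0))⁻¹ * s 0 _ * s 1 (w 0) = (s 0 (w 1))⁻¹ * s 1 _ * s 0 (w 1)
    calc _ = (s 0 (w 1) * s 1 (w 0))⁻¹ * (s 0 (w 1) * s 0 (w 0 * S.x r t * (w 0)⁻¹) * (s 0 (w 1))⁻¹) *
          (s 0 (w 1) * s 1 (w 0)) := by group
      _ = _ := by rw [q5, ← c2.eq]; group
  have P1 : ∀ c, MulOn (S.UU (half c)) (g c) := by
    rintro (i | i)
    · exact hs' i
    · intro a ha b hb
      have := hs' i _ (cm i (fun k hk => (half_refl i k).1 hk) ha) _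
        (cm i (fun k hk => (half_refl i k).1 hk) hb)
      simp only [g, Sum.elim_inr]
      rw [show w i * (a * b) * (w i)⁻¹ = w i * a * (w i)⁻¹ * (w i * b * (w i)⁻¹) by group, this]
      group
  have P2 : ∀ c c', ∀ r ∈ half c, r ∈ half c' → ∀ t, g c (S.x r t) = g c' (S.x r t) := by
    rintro (i | i) (j | j) r hr hr' t
    · by_cases h : j = i
      · rw [h]
      · exact hQ _ (S.x_mem_UU (both i r hr (hrev i j h ▸ hr')) t) i j
    · exact A j i r hr hr' t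
    · exact (A i j r hr' hr t).symm
    · fin_cases i <;> fin_cases j
      exacts [rfl, B r hr hr' t, (B r hr' hr t).symm, rfl]
  obtain ⟨T, hT1, hT2⟩ := exists_stSys_of_cover (S₀ := S) (hS ▸ spSys_nondeg) (hS ▸ spSys_two_genS) half g P1
    half_closed half_cover P2
  have hR : Stein.HRule T := Stein.HRule.of_map (MonoidHom.snd _ _) hT1 (hS ▸ spSys_nondeg) (hS ▸ spSys_hRule)
  have r1 : ∀ c d, c ≠ 0 → d ≠ 0 → T.h ((rootC 2).simple 1) c * T.h ((rootC 2).simple 1) d =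
      T.h ((rootC 2).simple 1) (c * d) := by
    have a1 : (rootC 2).simple 1 ∈ half (.inl 0) := by decide +kernel
    have a2 : (rootC 2).neg ((rootC 2).simple 1) ∈ half (.inl 0) := by decide +kernel
    have k1 : ∀ c, T.n ((rootC 2).simple 1) c = (s 0 (S.n ((rootC 2).simple 1) c), S.n ((rootC 2).simple 1) c) := by
      intro c
      have := Stein.map_n (S := T) (S₀ := S) (MonoidHom.snd Γ _) hT1 ((rootC 2).simple 1) c
      refine Prod.ext ?_ this
      simp only [StSys.n, Prod.fst_mul, hT2 _ _ a1, hT2 _ _ a2]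
      rw [hs' 0 _ (mul_mem (S.x_mem_UU a1 _) (S.x_mem_UU a2 _)) _ (S.x_mem_UU a1 _),
        hs' 0 _ (S.x_mem_UU a1 _) _ (S.x_mem_UU a2 _)]
      rfl
    have k2 : ∀ c, T.h ((rootC 2).simple 1) c = (s 0 (S.h ((rootC 2).simple 1) c), S.h ((rootC 2).simple 1) c) :=
      fun c => by
        rw [StSys.h, k1, k1, StSys.h, hs' 0 _ (S.n_mem_UU a1 a2 _) _ (S.n_mem_UU a1 a2 _)]; rfl
    have k3 : ∀ c, S.h ((rootC 2).simple 1) c ∈ S.UU (half (.inl 0)) := fun c =>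
      mul_mem (S.n_mem_UU a1 a2 _) (S.n_mem_UU a1 a2 _)
    intro c d hc hd
    rw [k2, k2, k2, ← (hS ▸ spSys_r3 : Stein.R3 S) _ c d hc hd, hs' 0 _ (k3 c) _ (k3 d)]; rfl
  obtain ⟨f, hf⟩ := exists_hom_of_sc (hS ▸ spSys_nondeg) (hS ▸ spSys_grp) (hS ▸ spSys_sc) hT1
    (r3_of_simple fun i => by
    fin_cases i
    · exact r3_of_bond hR (j := 1) (by rw [rootC_wt]; decide +kernel) (by rw [rootC_wt]; decide +kernel) r1
    · exact r1)
  refine ⟨f, fun i a ha t => ?_, fun t => ?_⟩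
  · rw [spT_eq_x, ← hS, hf, hT2 (.inl i) _ (half_long i a ha)]; rfl
  · have := spE_eq_x m01 t
    change spE (bv F (.inl 0)) (t • bv F (.inl 1)) = _ at this
    rw [this, ← hS, hf, hT2 (.inl 0) _ (by decide +kernel)]; rfl

end CfsgLib.CT
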