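import Mathlib
import Cfsg.Agent.Lib.CT.Sp4

/-!
# Two copies of `Sp₄` glued along `SL₂` satisfy the relations of type `A₂`
-/

set_option autoImplicit false

namespace CfsgLib.CT

open CfsgLib.RGD CfsgLib.ClSys CfsgLib.Symp CfsgLib.Forms Matrix

variable {F : Type*} [Field F] {m : ℕ} {Γ : Type*} [Group Γ]

theorem relA_of_six {x01 x02 x10 x12 x20 x21 : F → Γ}
    (a : ∀ x ∈ [x01, x02, x10, x12, x20, x21], ∀ t u, x (t + u) = x t * x u)
    (c1 : ∀ t u, Commute (x02 t) (x01 u)) (c2 : ∀ t u, Commute (x10 t) (x12 u))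
    (c3 : ∀ t u, Commute (x20 t) (x21 u)) (c4 : ∀ t u, Commute (x20 t) (x10 u))
    (c5 : ∀ t u, Commute (x01 t) (x21 u)) (c6 : ∀ t u, Commute (x02 t) (x12 u))
    (h1 : ∀ t u, x01 t * x12 u * (x01 t)⁻¹ * (x12 u)⁻¹ = x02 (t * u))
    (h2 : ∀ t u, x10 t * x02 u * (x10 t)⁻¹ * (x02 u)⁻¹ = x12 (t * u))
    (h3 : ∀ t u, x02 t * x21 u * (x02 t)⁻¹ * (x21 u)⁻¹ = x01 (t * u))
    (h4 : ∀ t u, x21 t * x10 u * (x21 t)⁻¹ * (x10 u)⁻¹ = x20 (t * u))
    (h5 : ∀ t u, x12 t * x20 u * (x12 t)⁻¹ * (x20 u)⁻¹ = x10 (t * u))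
    (h6 : ∀ t u, x20 t * x01 u * (x20 t)⁻¹ * (x01 u)⁻¹ = x21 (t * u)) :
    ∃ x : OffD 3 → F → Γ, RelA x ∧ x (o3 0 1) = x01 ∧ x (o3 1 0) = x10 ∧ x (o3 1 2) = x12 ∧ x (o3 2 1) = x21 := by
  have c0 : ∀ x ∈ [x01, x02, x10, x12, x20, x21], ∀ t u, Commute (x t) (x u) := fun x hx t u => by
    rw [Commute, SemiconjBy, ← a x hx, ← a x hx, add_comm]
  refine ⟨fun r => ![![x01, x01, x02], ![x10, x10, x12], ![x20, x21, x21]] r.1.1 r.1.2,
    relA_of_chain (fun r t u => ?_) (fun r s t u k1 k2 => Commute.commutator_eq ?_) h1 h2 h3 h4 h5 h6,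
    rfl, rfl, rfl, rfl⟩
  · rcases offD3_cases r with rfl | rfl | rfl | rfl | rfl | rfl <;> exact (a _ (by simp) t u).symm
  · rcases offD3_cases r with rfl | rfl | rfl | rfl | rfl | rfl <;>
      rcases offD3_cases s with rfl | rfl | rfl | rfl | rfl | rfl <;>
      first
        | exact absurd rfl k1 | exact absurd rfl k2 | exact c0 _ (by simp) t u
        | exact c1 _ _ | exact c2 _ _ | exact c3 _ _ | exact c4 _ _ | exact c5 _ _ | exact c6 _ _
        | exact (c1 _ _).symm | exact (c2 _ _).symm | exact (c3 _ _).symm | exact (c4 _ _).symm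
        | exact (c5 _ _).symm | exact (c6 _ _).symm

/-- the vectors of the `i`-th hyperbolic plane -/
def vec (i : Fin m) (v : F × F) : II m → F := v.1 • bv F (.inl i) + v.2 • bv F (.inr i)

theorem vec_add (i : Fin m) (v w : F × F) : vec i (v + w) = vec i v + vec i w := by
  simp only [vec, Prod.fst_add, Prod.snd_add]; module

theorem vec_smul (i : Fin m) (c : F) (v : F × F) : vec i (c • v) = c • vec i v := by
  simp only [vec, Prod.smul_fst, Prod.smul_snd, smul_eq_mul]; module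

theorem vec_fst (i : Fin m) (s : F) : vec i (s, 0) = s • bv F (.inl i) := by simp [vec]

theorem vec_snd (i : Fin m) (s : F) : vec i (0, s) = s • bv F (.inr i) := by simp [vec]

theorem spB_vec {i j : Fin m} (h : i ≠ j) (v w : F × F) : spB (Fin m) F (vec i v) (vec j w) = 0 := by
  simp [vec, spB_single_right, h.symm]

theorem spT_inl_vec (i : Fin m) (s r t : F) : spT (bv F (.inl i)) t • vec i (s, r) = vec i (s + t * r, r) := by
  rw [spT_smul, spB_single_inl_right]; simp only [vec]; simp; module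

theorem spT_inr_vec (i : Fin m) (s r t : F) : spT (bv F (.inr i)) t • vec i (s, r) = vec i (s, r - t * s) := by
  rw [spT_smul, spB_single_inr_right]; simp only [vec]; simp; module

theorem spT_vec_ne {i j : Fin m} (h : i ≠ j) {a : II m} (ha : a = .inl i ∨ a = .inr i) (t : F) (v : F × F) :
    spT (bv F a) t • vec j v = vec j v := by
  rcases ha with rfl | rfl <;> simp [spT_smul, vec, spB_single_right, h]

/-- the torus of the `i`-th hyperbolic plane -/
def hT (i : Fin m) (c : F) : symplecticGroup (Fin m) F :=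
  spT (bv F (.inl i)) c * spT (bv F (.inr i)) c⁻¹ * spT (bv F (.inl i)) (c - 1) * spT (bv F (.inr i)) (-1) *
    spT (bv F (.inl i)) (-1)

theorem hT_smul (i : Fin m) {c : F} (hc : c ≠ 0) (x : II m → F) :
    hT i c • x = x + ((c - 1) * x (.inl i)) • bv F (.inl i) + ((c⁻¹ - 1) * x (.inr i)) • bv F (.inr i) := by
  simp only [hT, mul_smul, spT_smul, spB_single_inl_right, spB_single_inr_right, Pi.add_apply, Pi.smul_apply,
    Pi.single_eq_same, Pi.single_eq_of_ne Sum.inl_ne_inr, Pi.single_eq_of_ne Sum.inr_ne_inl, smul_eq_mul]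
  match_scalars <;> field_simp <;> ring

/-- the root element of `ε₀ - ε₁` -/
def xp (t : F) : symplecticGroup (Fin 2) F := spE (bv F (.inl 0)) ((-1 * t) • bv F (.inr 1))

/-- the root element of `ε₁ - ε₀` -/
def xm (t : F) : symplecticGroup (Fin 2) F := spE (bv F (.inl 1)) ((-1 * t) • bv F (.inr 0))

theorem xp_eq (t : F) : (spSys 2 F).x ((rootC 2).simple 0) t = xp t := spSys_x_inl (m := 2) (midS 0 (by decide)) t

theorem xm_eq (t : F) : (spSys 2 F).x ((rootC 2).neg ((rootC 2).simple 0)) t = xm t :=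
  spSys_x_inl (m := 2) (negM (midS 0 (by decide))) t

theorem xp_smul (t : F) (x : II 2 → F) :
    xp t • x = x + (-(t * x (.inr 0))) • bv F (.inr 1) + (t * x (.inl 1)) • bv F (.inl 0) := by
  rw [xp, spE_smul (by simp [spB_single_right])]
  simp only [map_smul, spB_single_inl_right, spB_single_inr_right, smul_eq_mul]; module

theorem xm_smul (t : F) (x : II 2 → F) :
    xm t • x = x + (-(t * x (.inr 1))) • bv F (.inr 0) + (t * x (.inl 0)) • bv F (.inl 1) := by
  rw [xm, spE_smul (by simp [spB_single_right])]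
  simp only [map_smul, spB_single_inl_right, spB_single_inr_right, smul_eq_mul]; module

theorem xm_mul_xp {s t : F} (h : 1 + s * t ≠ 0) : xm s * xp t =
    xp (t / (1 + s * t)) * (hT 0 (1 + s * t)⁻¹ * hT 1 (1 + s * t)) * xm (s / (1 + s * t)) := by
  obtain ⟨l, hl⟩ : ∃ l, l = 1 + s * t := ⟨_, rfl⟩
  rw [← hl] at h ⊢
  refine sp_ext fun x => ?_
  simp only [mul_smul, xm_smul, xp_smul, hT_smul _ h, hT_smul _ (inv_ne_zero h)]
  ext (j | j) <;> fin_cases j <;> simp <;> field_simp <;> rw [hl] <;> ring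

theorem xp_mul_xm {s t : F} (h : 1 + s * t ≠ 0) : xp s * xm t =
    xm (t / (1 + s * t)) * (hT 0 (1 + s * t) * hT 1 (1 + s * t)⁻¹) * xp (s / (1 + s * t)) := by
  obtain ⟨l, hl⟩ : ∃ l, l = 1 + s * t := ⟨_, rfl⟩
  rw [← hl] at h ⊢
  refine sp_ext fun x => ?_
  simp only [mul_smul, xm_smul, xp_smul, hT_smul _ h, hT_smul _ (inv_ne_zero h)]
  ext (j | j) <;> fin_cases j <;> simp <;> field_simp <;> rw [hl] <;> ring

theorem conj_hT {c : F} (hc : c ≠ 0) (u : F) :
    (hT 0 c * xp u * (hT 0 c)⁻¹ = xp (c * u) ∧ hT 0 c⁻¹ * xm u * (hT 0 c⁻¹)⁻¹ = xm (c * u)) ∧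
      hT 1 c⁻¹ * xp u * (hT 1 c⁻¹)⁻¹ = xp (c * u) ∧ hT 1 c * xm u * (hT 1 c)⁻¹ = xm (c * u) := by
  refine ⟨⟨?_, ?_⟩, ?_, ?_⟩ <;> rw [mul_inv_eq_iff_eq_mul] <;> refine sp_ext fun x => ?_ <;>
    simp only [mul_smul, xm_smul, xp_smul, hT_smul _ hc, hT_smul _ (inv_ne_zero hc)] <;>
    ext (j | j) <;> fin_cases j <;> simp <;> field_simp <;> ring

theorem commute_conj {a b g : Γ} (h : Commute a b) : Commute (g * a * g⁻¹) (g * b * g⁻¹) :=
  h.map (MulAut.conj g)

theorem comm_inv_of {a b c : Γ} (h : a * b * a⁻¹ * b⁻¹ = c) : b * a * b⁻¹ * a⁻¹ = c⁻¹ := by rw [← h]; group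

/-- **the single bond in a symplectic amalgam** -/
theorem exists_relA_sp (hF : ∃ a : F, a ≠ 0 ∧ a ≠ 1) (f g : symplecticGroup (Fin 2) F →* Γ)
    (h1 : ∀ t, f (spT (bv F (.inl 1)) t) = g (spT (bv F (.inl 0)) t))
    (h1' : ∀ t, f (spT (bv F (.inr 1)) t) = g (spT (bv F (.inr 0)) t))
    (h2 : ∀ a, (a = .inl 0 ∨ a = .inr 0) → ∀ t y, Commute (f (spT (bv F a) t)) (g y))
    (h3 : ∀ a, (a = .inl 1 ∨ a = .inr 1) → ∀ t y, Commute (g (spT (bv F a) t)) (f y))
    (h4 : ∀ t u : F, Commute (f (spE (bv F (.inl 0)) (t • bv F (.inl 1)))) (g (spE (bv F (.inl 0)) (u • bv F (.inl 1))))) :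
    ∃ x : OffD 3 → F → Γ, RelA x ∧ x (o3 0 1) = (fun t => f (xp t)) ∧ x (o3 1 0) = (fun t => f (xm t)) ∧
      x (o3 1 2) = (fun t => g (xp t)) ∧ x (o3 2 1) = fun t => g (xm t) := by
  have n01 : (0 : Fin 2) ≠ 1 := by decide
  have cf : ∀ T u v, f (spE (T • u) (T • v)) = f T * f (spE u v) * (f T)⁻¹ := fun T u v => by
    rw [← conj_spE, map_mul, map_mul, map_inv]
  have cg : ∀ T u v, g (spE (T • u) (T • v)) = g T * g (spE u v) * (g T)⁻¹ := fun T u v => by
    rw [← conj_spE, map_mul, map_mul, map_inv]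
  have Q : ∀ (x y z : F × F) (a b : F),
      Commute (f (spE (vec 0 x) (vec 1 (a • y)))) (g (spE (vec 1 z) (vec 0 (b • y)))) := by
    have mv0 : ∀ {c : II 2} {u v u' w}, (c = .inl 0 ∨ c = .inr 0) → ∀ t, spT (bv F c) t • u = u' →
        Commute (f (spE u (vec 1 v))) (g w) → Commute (f (spE u' (vec 1 v))) (g w) := fun {c _ _ _ _} hc t e h => by
      have := commute_conj (g := f (spT (bv F c) t)) h
      rwa [← cf, e, spT_vec_ne n01 hc, (h2 _ hc t _).eq, mul_inv_cancel_right] at this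
    have mv2 : ∀ {c : II 2} {u v u' w}, (c = .inl 1 ∨ c = .inr 1) → ∀ t, spT (bv F c) t • u = u' →
        Commute (f w) (g (spE u (vec 0 v))) → Commute (f w) (g (spE u' (vec 0 v))) := fun {c _ _ _ _} hc t e h => by
      have := commute_conj (g := g (spT (bv F c) t)) h
      rwa [← cg, e, spT_vec_ne n01.symm hc, (h3 _ hc t _).eq, mul_inv_cancel_right] at this
    intro x y z a b
    induction x using plane_induction with
    | h1 s r t h => exact mv0 (.inl rfl) t (spT_inl_vec ..) h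
    | h2 s r t h => exact mv0 (.inr rfl) t (spT_inr_vec ..) h
    | h0 x =>
    induction z using plane_induction with
    | h1 s r t h => exact mv2 (.inl rfl) t (spT_inl_vec ..) h
    | h2 s r t h => exact mv2 (.inr rfl) t (spT_inr_vec ..) h
    | h0 z =>
    induction y using plane_induction with
    | h1 s r t h =>
      have := commute_conj (g := f (spT (bv F (.inl 1)) t)) h
      rwa [← cf, h1, ← cg, spT_vec_ne n01.symm (.inl rfl), spT_vec_ne n01 (.inl rfl), vec_smul, vec_smul,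
        smul_comm, smul_comm (spT _ _), spT_inl_vec, spT_inl_vec, ← vec_smul, ← vec_smul] at this
    | h2 s r t h =>
      have := commute_conj (g := f (spT (bv F (.inr 1)) t)) h
      rwa [← cf, h1', ← cg, spT_vec_ne n01.symm (.inr rfl), spT_vec_ne n01 (.inr rfl), vec_smul, vec_smul,
        smul_comm, smul_comm (spT _ _), spT_inr_vec, spT_inr_vec, ← vec_smul, ← vec_smul] at this
    | h0 y =>
      simp only [vec_smul, vec_fst, smul_smul]
      rw [spE_smul_smul (spB_bv (by simp)) x, spE_smul_smul (spB_bv (by simp)) z,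
        spE_swap (u := bv F (.inl 0)) (v := bv F (.inl 1)) (spB_bv (by simp))]
      exact h4 _ _
  have H : ∀ (c d : II 2) (x z : F × F), (c = .inl 0 ∨ c = .inr 0) → (d = .inl 1 ∨ d = .inr 1) →
      vec 0 x = bv F c → vec 1 z = bv F d → ∃ C : F → Γ,
      (∀ v w, f (spE (bv F c) (vec 1 v)) * g (spE (bv F d) (vec 0 w)) * (f (spE (bv F c) (vec 1 v)))⁻¹ *
        (g (spE (bv F d) (vec 0 w)))⁻¹ = C (v.1 * w.2 - v.2 * w.1)) ∧ (∀ t u, C (t + u) = C t * C u) ∧
      (∀ t v, Commute (C t) (f (spE (bv F c) (vec 1 v)))) ∧ ∀ t w, Commute (C t) (g (spE (bv F d) (vec 0 w))) := by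
    intro c d x z hc hd ex ez
    refine heisenberg (fun v v' => ⟨_, fun w => h2 c hc (spB (Fin 2) F (vec 1 v) (vec 1 v')) _, ?_⟩)
      (fun w w' => ⟨_, fun v => h3 d hd (spB (Fin 2) F (vec 0 w) (vec 0 w')) _, ?_⟩)
      fun v a b => ex ▸ ez ▸ Q x v z a b
    · rw [vec_add, spE_add (ex ▸ spB_vec n01 _ _) (ex ▸ spB_vec n01 _ _), map_mul, map_mul]
    · rw [vec_add, spE_add (ez ▸ spB_vec n01.symm _ _) (ez ▸ spB_vec n01.symm _ _), map_mul, map_mul]
  obtain ⟨C, C1, C2, C3, C4⟩ := H _ _ (1, 0) (0, 1) (.inl rfl) (.inr rfl) (by simp [vec]) (by simp [vec])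
  obtain ⟨D, D1, D2, D3, D4⟩ := H _ _ (0, 1) (1, 0) (.inr rfl) (.inl rfl) (by simp [vec]) (by simp [vec])
  have p1 : ∀ t : F, xp t = spE (bv F (.inl 0)) (vec 1 (0, -1 * t)) := fun t => by rw [vec_snd, xp]
  have p2 : ∀ t : F, xp t = spE (bv F (.inr 1)) (vec 0 (-1 * t, 0)) := fun t => by
    rw [vec_fst, xp, spE_swap (spB_bv (by simp))]
  have m1 : ∀ t : F, xm t = spE (bv F (.inl 1)) (vec 0 (0, -1 * t)) := fun t => by rw [vec_snd, xm]
  have m2 : ∀ t : F, xm t = spE (bv F (.inr 0)) (vec 1 (-1 * t, 0)) := fun t => by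
    rw [vec_fst, xm, spE_swap (spB_bv (by simp))]
  have ap : ∀ t u : F, xp (t + u) = xp t * xp u := fun t u => by simp only [← xp_eq, StSys.x_add]
  have am : ∀ t u : F, xm (t + u) = xm t * xm u := fun t u => by simp only [← xm_eq, StSys.x_add]
  have ng : ∀ {x : F → Γ}, (∀ t u, x (t + u) = x t * x u) → ∀ t, x (-t) = (x t)⁻¹ := fun h =>
    neg_eq_inv_of_add h
  have afp : ∀ t u, f (xp (t + u)) = f (xp t) * f (xp u) := fun t u => by rw [ap, map_mul]
  have afm : ∀ t u, f (xm (t + u)) = f (xm t) * f (xm u) := fun t u => by rw [am, map_mul]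
  have agp : ∀ t u, g (xp (t + u)) = g (xp t) * g (xp u) := fun t u => by rw [ap, map_mul]
  have agm : ∀ t u, g (xm (t + u)) = g (xm t) * g (xm u) := fun t u => by rw [am, map_mul]
  have c2 : ∀ t u, Commute (f (xm t)) (g (xp u)) := fun t u => by
    have := Q (0, 1) (1, 0) (0, 1) (-1 * t) (-1 * u)
    rw [m2, p2]; simpa [vec] using this
  have c5 : ∀ t u, Commute (f (xp t)) (g (xm u)) := fun t u => by
    have := Q (1, 0) (0, 1) (1, 0) (-1 * t) (-1 * u)
    rw [p1, m1]; simpa [vec] using this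
  have k1 : ∀ t u, f (xp t) * g (xp u) * (f (xp t))⁻¹ * (g (xp u))⁻¹ = C (-(t * u)) := fun t u => by
    rw [p1 t, p2 u, C1]; congr 1; ring
  have k4 : ∀ t u, f (xm t) * g (xm u) * (f (xm t))⁻¹ * (g (xm u))⁻¹ = D (t * u) := fun t u => by
    rw [m2 t, m1 u, D1]; congr 1; ring
  have t1 : ∀ c, f (hT 1 c) = g (hT 0 c) := fun c => by simp only [hT, map_mul, h1, h1']
  have t2 : ∀ c y, Commute (f (hT 0 c)) (g y) := fun c y => by
    simp only [hT, map_mul]
    exact ((((h2 _ (.inl rfl) _ _).mul_left (h2 _ (.inr rfl) _ _)).mul_left (h2 _ (.inl rfl) _ _)).mul_left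
      (h2 _ (.inr rfl) _ _)).mul_left (h2 _ (.inl rfl) _ _)
  have t3 : ∀ c y, Commute (g (hT 1 c)) (f y) := fun c y => by
    simp only [hT, map_mul]
    exact ((((h3 _ (.inl rfl) _ _).mul_left (h3 _ (.inr rfl) _ _)).mul_left (h3 _ (.inl rfl) _ _)).mul_left
      (h3 _ (.inr rfl) _ _)).mul_left (h3 _ (.inl rfl) _ _)
  have u1 : ∀ c d y y', hT 0 d * y * (hT 0 d)⁻¹ = y' →
      f (hT 0 c * hT 1 d) * g y * (f (hT 0 c * hT 1 d))⁻¹ = g y' := fun c d y y' e => by
    rw [map_mul, t1, ← mul_inv_cancel_right (g y') (f (hT 0 c)), ← (t2 c y').eq, ← e, map_mul, map_mul, map_inv]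
    group
  have u2 : ∀ c d y y', hT 1 c * y * (hT 1 c)⁻¹ = y' →
      g (hT 0 c * hT 1 d) * f y * (g (hT 0 c * hT 1 d))⁻¹ = f y' := fun c d y y' e => by
    rw [map_mul, ← t1, mul_assoc (f _), (t3 d y).eq, ← e, map_mul, map_mul, map_inv]; group
  have cC1 : ∀ t u, Commute (C t) (f (xp u)) := fun t u => p1 u ▸ C3 t _
  have cC2 : ∀ t u, Commute (C t) (g (xp u)) := fun t u => p2 u ▸ C4 t _
  have cD1 : ∀ t u, Commute (D t) (f (xm u)) := fun t u => m2 u ▸ D3 t _
  have cD2 : ∀ t u, Commute (D t) (g (xm u)) := fun t u => m1 u ▸ D4 t _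
  refine relA_of_six (x02 := fun t => C (-t)) (x20 := fun t => D (-t)) ?_ (fun _ _ => cC1 _ _) c2
    (fun _ _ => cD2 _ _) (fun _ _ => cD1 _ _) c5 (fun _ _ => cC2 _ _) k1 ?_ (fun t u => ?_) (fun t u => ?_) ?_
    fun t u => ?_
  · simp only [List.mem_cons, List.not_mem_nil, or_false]
    rintro x (rfl | rfl | rfl | rfl | rfl | rfl)
    exacts [afp, fun t u => by simp only [neg_add, C2], afm, agp, fun t u => by simp only [neg_add, D2], agm]
  · exact chain_of_cell hF (a := fun t => f (xp t)) (q := fun t => C (-t)) agp k1 c2 (fun _ _ => cC2 _ _)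
      fun s t h => ⟨f _, _, by rw [← map_mul, xm_mul_xp h, map_mul, map_mul],
        fun u => u1 _ _ _ _ (conj_hT h u).1.1⟩
  · have := chain_of_cell hF (a := fun t => g (xp t)) (b := fun t => g (xm t)) (q := C) afp
      (fun t u => by rw [comm_inv_of (k1 u t), ng C2, inv_inv, mul_comm]) (fun t u => (c5 u t).symm) cC1
      (fun s t h => ⟨g _, _, by rw [← map_mul, xm_mul_xp h, map_mul, map_mul],
        fun u => u2 _ _ _ _ (conj_hT h u).2.1⟩) u (-t)
    rw [comm_inv_of this, mul_neg, ng (x := fun t => f (xp t)) afp, inv_inv, mul_comm]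
  · rw [comm_inv_of (k4 u t), ← ng D2, mul_comm]
  · exact chain_of_cell hF (a := fun t => g (xm t)) (q := fun t => D (-t)) afm
      (fun t u => by rw [comm_inv_of (k4 u t), ← ng D2, mul_comm]) (fun t u => (c2 u t).symm) (fun _ _ => cD1 _ _)
      fun s t h => ⟨g _, _, by rw [← map_mul, xp_mul_xm h, map_mul, map_mul],
        fun u => u2 _ _ _ _ (conj_hT h u).2.2⟩
  · have := chain_of_cell hF (a := fun t => f (xm t)) (b := fun t => f (xp t)) (q := D) agm k4 c5 cD2
      (fun s t h => ⟨f _, _, by rw [← map_mul, xp_mul_xm h, map_mul, map_mul],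
        fun u => u1 _ _ _ _ (conj_hT h u).1.2⟩) u (-t)
    rw [comm_inv_of this, mul_neg, ng (x := fun t => g (xm t)) agm, inv_inv, mul_comm]

end CfsgLib.CT
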