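import Mathlib
import Cfsg.Agent.Lib.CT.Sp6

/-!
# The symplectic group as the universal completion of an amalgam of small subgroups
-/

set_option autoImplicit false

namespace CfsgLib.CT

open CfsgLib.RGD CfsgLib.ClSys CfsgLib.Symp CfsgLib.Forms Matrix

variable {F : Type*} [Field F] {n : ℕ} {Γ : Type*} [Group Γ]

theorem cartanC_far {i j : Fin n} (h : i.val + 2 ≤ j.val) : (rootC n).A i j = 0 := by
  have hi : i.val + 1 < n := by omega
  have h1 : i.val ≠ j.val := by omega
  have h2 : i.val + 1 ≠ j.val := by omega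
  have h3 : i.val ≠ j.val + 1 := by omega
  rw [← (rootC n).wt_simple, rootC_wt, rootBC_simple]
  simp only [simpleBC, dif_pos hi]
  split_ifs <;> simp only [coC, evBC, evM, midS, Sum.elim_inl, Sum.elim_inr, dotProduct_smul] <;>
    simp [eps_dot', Fin.ext_iff, h1, h2, h3]

theorem cartanC_adj {i j : Fin n} (h : i.val + 1 = j.val) (hj : j.val + 1 < n) :
    (rootC n).A i j = -1 ∧ (rootC n).A j i = -1 := by
  have hi : i.val + 1 < n := by omega
  have h1 : i.val ≠ i.val + 1 + 1 := by omega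
  rw [← (rootC n).wt_simple, ← (rootC n).wt_simple, rootC_wt, rootC_wt, rootBC_simple, rootBC_simple]
  simp only [simpleBC, dif_pos hi, dif_pos hj]
  simp [coC, evBC, evM, midS, eps_dot', Fin.ext_iff, ← h, h1, h1.symm]

/-- two consecutive indices -/
def emb2 (i : ℕ) (h : i + 1 < n) : Fin 2 ↪ Fin n :=
  ⟨fun k => ⟨i + k.val, by omega⟩, fun k l e => Fin.ext (by simpa using e)⟩

variable (F) in
/-- the root element of `ε_i + ε_{i+1}` -/
def spM (i : ℕ) (h : i + 1 < n) (t : F) : symplecticGroup (Fin n) F :=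
  spE (bv F (.inl (emb2 i h 0))) (t • bv F (.inl (emb2 i h 1)))

theorem spEmb_M (i : ℕ) (h : i + 1 < n) (t : F) :
    spEmb (emb2 i h) (spE (bv F (.inl 0)) (t • bv F (.inl 1))) = spM F i h t := spEmb_E _ _ _ _

theorem commute_spT_spM {a : II n} {i : ℕ} (h : i + 1 < n) (h0 : a ≠ .inr (emb2 i h 0)) (h1 : a ≠ .inr (emb2 i h 1))
    (t u : F) : Commute (spT (bv F a) t) (spM F i h u) := by
  have := conj_spE (spT (bv F a) t) (bv F (.inl (emb2 i h 0))) (u • bv F (.inl (emb2 i h 1)))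
  rw [smul_comm, spT_smul, spT_smul, spB_bv (fun e => h0 (eq_swap_comm.1 e)),
    spB_bv (fun e => h1 (eq_swap_comm.1 e))] at this
  simp only [mul_zero, zero_smul, add_zero] at this
  exact mul_inv_eq_iff_eq_mul.1 this

theorem commute_spM {i j : ℕ} (hi : i + 1 < n) (hj : j + 1 < n) (t u : F) :
    Commute (spM F i hi t) (spM F j hj u) := by
  have k : ∀ l, spM F i hi t • bv F (.inl l : II n) = bv F (.inl l) := fun l => by
    rw [spM, spE_smul (by simp [spB_single_right])]; simp [spB_single_right]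
  have := conj_spE (spM F i hi t) (bv F (.inl (emb2 j hj 0))) (u • bv F (.inl (emb2 j hj 1)))
  rw [smul_comm, k, k] at this
  exact mul_inv_eq_iff_eq_mul.1 this

/-- images of the long root elements and of the `x_{ε_i + ε_{i+1}}` compatible with the amalgam -/
structure SpData (τ : II n → F → Γ) (ν : ℕ → F → Γ) : Prop where
  ms : ∀ i (h : i + 1 < n) (j : Fin n), ∃ (K : Subgroup (symplecticGroup (Fin n) F))
    (s : symplecticGroup (Fin n) F → Γ), MulOn K s ∧
      (∀ a, (a = .inl j ∨ a = .inr j) ∨ (∃ k, a = .inl (emb2 i h k)) → ∀ t,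
        spT (bv F a) t ∈ K ∧ s (spT (bv F a) t) = τ a t) ∧ ∀ t, spM F i h t ∈ K ∧ s (spM F i h t) = ν i t
  ss : ∀ a b, a ≠ b → a ≠ b.swap → ∀ t u, Commute (τ a t) (τ b u)
  mm : ∀ i j, i + 1 < n → j + 1 < n → i ≠ j → ∀ t u, Commute (ν i t) (ν j u)

namespace SpData

variable {τ : II n → F → Γ} {ν : ℕ → F → Γ} (D : SpData τ ν)
include D

theorem prod : SpData (fun a t => (τ a t, spT (bv F a) t))
    fun i t => (ν i t, if h : i + 1 < n then spM F i h t else 1) where
  ms i h j := by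
    obtain ⟨K, s, h1, h2, h3⟩ := D.ms i h j
    exact ⟨K, fun x => (s x, x), fun a ha b hb => Prod.ext (h1 a ha b hb) rfl,
      fun a ha t => ⟨(h2 a ha t).1, Prod.ext (h2 a ha t).2 rfl⟩,
      fun t => ⟨(h3 t).1, Prod.ext (h3 t).2 (by simp only [dif_pos h])⟩⟩
  ss a b h h' t u := Commute.prod (D.ss a b h h' t u) (commute_spT (spB_bv h') t u)
  mm i j hi hj h t u := Commute.prod (D.mm i j hi hj h t u) (by
    simp only [dif_pos hi, dif_pos hj]; exact commute_spM hi hj t u)

theorem exists_hom (i : ℕ) (h : i + 1 < n) : ∃ f : symplecticGroup (Fin 2) F →* Γ,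
    (∀ a t, f (spT (bv F a) t) = τ (Sum.map (emb2 i h) (emb2 i h) a) t) ∧
      ∀ t : F, f (spE (bv F (.inl 0)) (t • bv F (.inl 1))) = ν i t := by
  choose K s h1 h2 h3 using fun k : Fin 2 => D.ms i h (emb2 i h k.rev)
  have h2' : ∀ k a, a ≠ .inr k → ∀ t, spEmb (emb2 i h) (spT (bv F a) t) ∈ K k ∧
      s k (spEmb (emb2 i h) (spT (bv F a) t)) = τ (Sum.map (emb2 i h) (emb2 i h) a) t := by
    intro k a ha t
    rw [spEmb_T]
    refine h2 k _ ?_ t
    rcases a with l | l
    · exact .inr ⟨l, rfl⟩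
    · obtain rfl : l = k.rev := by revert k l; decide
      exact .inl (.inr rfl)
  have hr : ∀ k : Fin 2, k.rev ≠ k := by decide
  obtain ⟨f, f1, f2⟩ := exists_hom_sp4 (fun k => (K k).comap (spEmb (emb2 i h)))
    (fun k x => s k (spEmb (emb2 i h) x)) (fun k a ha b hb => (congrArg (s k) (map_mul _ a b)).trans (h1 k _ ha _ hb))
    (fun k a ha t => (h2' k a ha t).1) (fun k t => by rw [Subgroup.mem_comap, spEmb_M]; exact (h3 k t).1)
    (fun k t => by rw [(h2' _ _ (by simp) t).2, (h2' _ _ (by simp) t).2])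
    (fun t => by rw [spEmb_M, (h3 _ t).2, (h3 _ t).2]) fun k a b ha hb t u => by
      have k1 := hr k
      rw [(h2' _ a (by rcases ha with rfl | rfl <;> simp [k1.symm]) t).2,
        (h2' _ b (by rcases hb with rfl | rfl <;> simp [k1]) u).2]
      refine D.ss _ _ ?_ ?_ t u <;> rcases ha with rfl | rfl <;> rcases hb with rfl | rfl <;> simp [k1.symm]
  refine ⟨f, fun a t => ?_, fun t => by rw [f2, spEmb_M, (h3 _ t).2]⟩
  obtain ⟨k, hk⟩ : ∃ k, a ≠ .inr k := by revert a; decide
  rw [f1 k a hk, (h2' k a hk t).2]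

theorem commute_hom {i : ℕ} {h : i + 1 < n} {f : symplecticGroup (Fin 2) F →* Γ}
    (f1 : ∀ a t, f (spT (bv F a) t) = τ (Sum.map (emb2 i h) (emb2 i h) a) t)
    (f2 : ∀ t : F, f (spE (bv F (.inl 0)) (t • bv F (.inl 1))) = ν i t) {j : Fin n} (hj : j.val ≠ i ∧ j.val ≠ i + 1)
    {a : II n} (ha : a = .inl j ∨ a = .inr j) (t : F) (y : symplecticGroup (Fin 2) F) : Commute (τ a t) (f y) := by
  have hk : ∀ k, j ≠ emb2 i h k := fun k e => by
    have := congrArg Fin.val e
    change j.val = i + k.val at this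
    omega
  have : (Subgroup.centralizer {τ a t}).comap f = ⊤ := sp4_gen (fun b u => ?_) fun u => ?_
  · exact Subgroup.mem_centralizer_singleton_iff.1 (this.ge (Subgroup.mem_top y)) |>.symm
  · rw [Subgroup.mem_comap, Subgroup.mem_centralizer_singleton_iff, f1]
    refine (D.ss _ _ ?_ ?_ t u).symm <;> rcases ha with rfl | rfl <;> rcases b with b | b <;> simp [hk]
  · rw [Subgroup.mem_comap, Subgroup.mem_centralizer_singleton_iff, f2]
    obtain ⟨K, s, h1, h2, h3⟩ := D.ms i h j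
    obtain ⟨m1, e1⟩ := h2 a (.inl ha) t
    rw [← e1, ← (h3 u).2, ← h1 _ m1 _ (h3 u).1, ← h1 _ (h3 u).1 _ m1, (commute_spT_spM h ?_ ?_ t u).eq] <;>
      rcases ha with rfl | rfl <;> simp [hk]

theorem commute_hom_hom {i j : ℕ} {hi : i + 1 < n} {hj : j + 1 < n} {f g : symplecticGroup (Fin 2) F →* Γ}
    (f1 : ∀ a t, f (spT (bv F a) t) = τ (Sum.map (emb2 i hi) (emb2 i hi) a) t)
    (f2 : ∀ t : F, f (spE (bv F (.inl 0)) (t • bv F (.inl 1))) = ν i t)
    (g1 : ∀ a t, g (spT (bv F a) t) = τ (Sum.map (emb2 j hj) (emb2 j hj) a) t)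
    (g2 : ∀ t : F, g (spE (bv F (.inl 0)) (t • bv F (.inl 1))) = ν j t) (h : i + 2 ≤ j)
    (x y : symplecticGroup (Fin 2) F) : Commute (f x) (g y) := by
  have hm : ∀ {l} (hl : l + 1 < n) (b : II 2), ∃ k : Fin 2, Sum.map (emb2 l hl) (emb2 l hl) b = .inl (emb2 l hl k) ∨
      Sum.map (emb2 l hl) (emb2 l hl) b = .inr (emb2 l hl k) := by
    rintro l hl (k | k)
    exacts [⟨k, .inl rfl⟩, ⟨k, .inr rfl⟩]
  have : (Subgroup.centralizer {g y}).comap f = ⊤ := sp4_gen (fun b u => ?_) fun u => ?_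
  · exact Subgroup.mem_centralizer_singleton_iff.1 (this.ge (Subgroup.mem_top x))
  · rw [Subgroup.mem_comap, Subgroup.mem_centralizer_singleton_iff, f1]
    obtain ⟨k, hk⟩ := hm hi b
    exact D.commute_hom g1 g2 (by change i + k.val ≠ j ∧ i + k.val ≠ j + 1; omega) hk u y
  · rw [Subgroup.mem_comap, Subgroup.mem_centralizer_singleton_iff]
    have : (Subgroup.centralizer {f (spE (bv F (.inl 0)) (u • bv F (.inl 1)))}).comap g = ⊤ :=
      sp4_gen (fun b t => ?_) fun t => ?_
    · exact (Subgroup.mem_centralizer_singleton_iff.1 (this.ge (Subgroup.mem_top y))).symm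
    · rw [Subgroup.mem_comap, Subgroup.mem_centralizer_singleton_iff, g1]
      obtain ⟨k, hk⟩ := hm hj b
      exact D.commute_hom f1 f2 (by change j + k.val ≠ i ∧ j + k.val ≠ i + 1; omega) hk t _
    · rw [Subgroup.mem_comap, Subgroup.mem_centralizer_singleton_iff, g2, f2]
      exact D.mm j i hj hi (by omega) t u

end SpData

theorem spEmb_xp (i : Fin n) (h : i.val + 1 < n) (t : F) :
    spEmb (emb2 i h) (xp t) = (spSys n F).x ((rootC n).simple i) t ∧
      spEmb (emb2 i h) (xm t) = (spSys n F).x ((rootC n).neg ((rootC n).simple i)) t := by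
  rw [rootBC_simple, simpleBC, dif_pos h, xp, xm, spEmb_E, spEmb_E]
  exact ⟨(spSys_x_inl (midS i h) t).symm, (spSys_x_inl (negM (midS i h)) t).symm⟩

theorem spSys_x_last (i : Fin n) (h : ¬ i.val + 1 < n) (t : F) :
    (spSys n F).x ((rootC n).simple i) t = spT (bv F (.inl i)) (1 * t) ∧
      (spSys n F).x ((rootC n).neg ((rootC n).simple i)) t = spT (bv F (.inr i)) (-1 * t) := by
  rw [rootBC_simple, simpleBC, dif_neg h]
  exact ⟨spSys_x_inr _ t, spSys_x_inr (.inr i) t⟩

theorem sp_gen {K : Subgroup (symplecticGroup (Fin n) F)} (h1 : ∀ a t, spT (bv F a) t ∈ K)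
    (h2 : ∀ i h t, spM F i h t ∈ K) : K = ⊤ := by
  rw [eq_top_iff, ← spSys_grp, grp_le_iff]
  intro k t
  by_cases h : k.val + 1 < n
  · have : K.comap (spEmb (emb2 k h)) = ⊤ :=
      sp4_gen (fun a t => by rw [Subgroup.mem_comap, spEmb_T]; exact h1 _ _)
        fun t => by rw [Subgroup.mem_comap, spEmb_M]; exact h2 _ _ _
    rw [← (spEmb_xp k h t).1, ← (spEmb_xp k h t).2]
    exact ⟨this.ge (Subgroup.mem_top _), this.ge (Subgroup.mem_top _)⟩
  · rw [(spSys_x_last k h t).1, (spSys_x_last k h t).2]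
    exact ⟨h1 _ _, h1 _ _⟩

/-- **the symplectic group as an amalgam** -/
theorem SpData.exists_hom_sp {τ : II n → F → Γ} {ν : ℕ → F → Γ} (D₀ : SpData τ ν) (hF : ∃ a : F, a ≠ 0 ∧ a ≠ 1)
    (hn : 2 ≤ n) : ∃ Φ : symplecticGroup (Fin n) F →* Γ, (∀ a t, Φ (spT (bv F a) t) = τ a t) ∧
      ∀ i h t, Φ (spM F i h t) = ν i t := by
  have D := D₀.prod
  choose f f1 f2 using D.exists_hom
  have hθ : ∀ i h x, (f i h x).2 = spEmb (emb2 i h) x := fun i h x => by
    have : ((MonoidHom.snd _ _).comp (f i h)).eqLocus (spEmb (emb2 i h)) = ⊤ :=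
      sp4_gen (fun a t => (congrArg Prod.snd (f1 i h a t)).trans (spEmb_T _ _ _).symm)
        fun t => (congrArg Prod.snd (f2 i h t)).trans ((dif_pos h).trans (spEmb_M i h t).symm)
    exact this.ge (Subgroup.mem_top x)
  obtain ⟨a, b, a1, a2⟩ : ∃ a b : Fin n → F → Γ × symplecticGroup (Fin n) F,
      (∀ (k : Fin n) h, (a k = fun t => f k h (xp t)) ∧ b k = fun t => f k h (xm t)) ∧
      ∀ k : Fin n, ¬ k.val + 1 < n → (a k = fun t => (τ (.inl k) (1 * t), spT (bv F (.inl k)) (1 * t))) ∧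
        b k = fun t => (τ (.inr k) (-1 * t), spT (bv F (.inr k)) (-1 * t)) :=
    ⟨fun k => if h : k.val + 1 < n then fun t => f k h (xp t) else _,
      fun k => if h : k.val + 1 < n then fun t => f k h (xm t) else _,
      fun k h => ⟨dif_pos h, dif_pos h⟩, fun k h => ⟨dif_neg h, dif_neg h⟩⟩
  have hab : ∀ k t, (a k t).2 = (spSys n F).x ((rootC n).simple k) t ∧
      (b k t).2 = (spSys n F).x ((rootC n).neg ((rootC n).simple k)) t := fun k t => by
    by_cases h : k.val + 1 < n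
    · rw [(a1 k h).1, (a1 k h).2]; dsimp only; rw [hθ, hθ]; exact spEmb_xp k h t
    · rw [(a2 k h).1, (a2 k h).2]; exact ⟨(spSys_x_last k h t).1.symm, (spSys_x_last k h t).2.symm⟩
  have last : ∀ (i j : Fin n) (e : i.val + 1 = j.val) (h : i.val + 1 < n), ¬ j.val + 1 < n → ∀ t,
      a j t = f i h ((spSys 2 F).x ((rootC 2).simple 1) t) ∧
        b j t = f i h ((spSys 2 F).x ((rootC 2).neg ((rootC 2).simple 1)) t) := fun i j e h hj t => by
    obtain rfl : j = emb2 i h 1 := Fin.ext e.symm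
    rw [(spSys_x_last 1 (by decide) t).1, (spSys_x_last 1 (by decide) t).2, f1, f1, (a2 _ hj).1, (a2 _ hj).2]
    exact ⟨rfl, rfl⟩
  have adj : ∀ i j : Fin n, i.val + 1 = j.val → LocP (spSys n F) (MonoidHom.snd _ _) a b {i, j} := by
    intro i j e
    have hi : i.val + 1 < n := by omega
    by_cases hj : j.val + 1 < n
    · have e1 : emb2 i hi 1 = emb2 j hj 0 := Fin.ext e
      obtain ⟨x, hx, x1, x2, x3, x4⟩ := exists_relA_sp hF (f i hi) (f j hj)
        (fun t => by rw [f1, f1, Sum.map_inl, e1]; rfl) (fun t => by rw [f1, f1, Sum.map_inr, e1]; rfl)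
        (fun c hc t y => by
          rw [f1]
          exact D.commute_hom (f1 j hj) (f2 j hj) (j := emb2 i hi 0) (by change i.val + 0 ≠ _ ∧ i.val + 0 ≠ _; omega)
            (by rcases hc with rfl | rfl; exacts [.inl rfl, .inr rfl]) t y)
        (fun c hc t y => by
          rw [f1]
          exact D.commute_hom (f1 i hi) (f2 i hi) (j := emb2 j hj 1) (by change j.val + 1 ≠ _ ∧ j.val + 1 ≠ _; omega)
            (by rcases hc with rfl | rfl; exacts [.inl rfl, .inr rfl]) t y)
        fun t u => by rw [f2, f2]; exact D.mm i j hi hj (by omega) t u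
      exact locP_of_relA spSys_nondeg (fun h => by simp [h] at e) (cartanC_adj e hj).1 (cartanC_adj e hj).2
        (fun k t => (hab k t).1) (fun k t => (hab k t).2) hx (x1.trans (a1 i hi).1.symm) (x2.trans (a1 i hi).2.symm)
        (x3.trans (a1 j hj).1.symm) (x4.trans (a1 j hj).2.symm)
    · obtain ⟨g, hg, hg'⟩ := exists_mulOn (((MonoidHom.fst _ _).comp (f i hi)).comp
        (MonoidHom.ofInjective (spEmb_injective (F := F) (emb2 i hi))).symm.toMonoidHom)
      have k : ∀ x, (g (f i hi x).2, (f i hi x).2) = f i hi x := fun x => by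
        refine Prod.ext ?_ rfl
        dsimp only
        rw [hθ, hg' _ ⟨x, rfl⟩]
        exact congrArg (fun y => (f i hi y).1) ((MulEquiv.symm_apply_eq _).2 rfl)
      have k' : ∀ l ∈ ({i, j} : Set (Fin n)), ∀ t, (∃ x, a l t = f i hi x) ∧ ∃ x, b l t = f i hi x := by
        rintro l (rfl | rfl) t
        · rw [(a1 l hi).1, (a1 l hi).2]; exact ⟨⟨_, rfl⟩, _, rfl⟩
        · exact ⟨⟨_, (last i l e hi hj t).1⟩, _, (last i l e hi hj t).2⟩
      have hX : ∀ l ∈ ({i, j} : Set (Fin n)), (spSys n F).X ((rootC n).simple l) ⊔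
          (spSys n F).X ((rootC n).neg ((rootC n).simple l)) ≤ (spEmb (emb2 i hi)).range := fun l hl => by
        refine sup_le ((Subgroup.closure_le _).2 ?_) ((Subgroup.closure_le _).2 ?_) <;> rintro _ ⟨_, rfl, t, rfl⟩
        · obtain ⟨x, hx⟩ := (k' l hl t).1
          exact ⟨x, by rw [← hθ, ← hx, (hab l t).1]⟩
        · obtain ⟨x, hx⟩ := (k' l hl t).2
          exact ⟨x, by rw [← hθ, ← hx, (hab l t).2]⟩
      refine ⟨_, loc_of_mulOn (g := fun x => (g x, x)) (fun x hx y hy => Prod.ext ?_ rfl) fun _ => rfl,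
        fun l hl => ⟨funext fun t => ?_, funext fun t => ?_⟩⟩
      · rw [UU_inSub_pair] at hx hy
        have := sup_le (hX i (by simp)) (hX j (by simp))
        exact hg x (this hx) y (this hy)
      · obtain ⟨x, hx⟩ := (k' l hl t).1
        rw [← (hab l t).1, hx, k]
      · obtain ⟨x, hx⟩ := (k' l hl t).2
        rw [← (hab l t).2, hx, k]
  have one : ∀ i : Fin n, LocP (spSys n F) (MonoidHom.snd _ _) a b {i} := fun i => by
    by_cases h : i.val + 1 < n
    · exact (adj i ⟨_, h⟩ rfl).mono (by simp)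
    · exact (adj ⟨i.val - 1, by omega⟩ i (by dsimp only; omega)).mono (by simp)
  have far : ∀ i j : Fin n, i.val + 2 ≤ j.val → LocP (spSys n F) (MonoidHom.snd _ _) a b {i, j} := by
    intro i j e
    have hi : i.val + 1 < n := by omega
    refine locP_of_commute (fun h => by simp [h] at e) (cartanC_far e) (one i) (one j) fun t u => ?_
    rw [(a1 i hi).1, (a1 i hi).2]
    by_cases hj : j.val + 1 < n
    · have := D.commute_hom_hom (f1 i hi) (f2 i hi) (f1 j hj) (f2 j hj) e
      rw [(a1 j hj).1, (a1 j hj).2]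
      exact ⟨⟨this _ _, this _ _⟩, this _ _, this _ _⟩
    · have := fun c hc t y => (D.commute_hom (f1 i hi) (f2 i hi) (j := j) (by omega) (a := c) hc t y).symm
      rw [(a2 j hj).1, (a2 j hj).2]
      exact ⟨⟨this _ (.inl rfl) _ _, this _ (.inr rfl) _ _⟩, this _ (.inl rfl) _ _, this _ (.inr rfl) _ _⟩
  obtain ⟨S, hS, hS'⟩ := exists_stSys_of_loc spSys_nondeg (MonoidHom.snd _ _) a b fun i j => by
    change LocP _ _ _ _ _
    rcases lt_trichotomy i.val j.val with h | h | h
    · exact (h.nat_succ_le.eq_or_lt).elim (adj i j) (far i j)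
    · rw [Fin.ext h]; exact (one j).mono (by simp)
    · rw [Set.pair_comm]; exact (h.nat_succ_le.eq_or_lt).elim (adj j i) (far j i)
  have ex : ∀ k : Fin n, ∃ (φ : symplecticGroup (Fin 2) F →* _) (r : RBC 2), ∀ t,
      a k t = φ ((spSys 2 F).x r t) ∧ b k t = φ ((spSys 2 F).x ((rootC 2).neg r) t) := fun k => by
    by_cases h : k.val + 1 < n
    · exact ⟨f k h, (rootC 2).simple 0, fun t => by rw [(a1 k h).1, (a1 k h).2, xp_eq, xm_eq]; exact ⟨rfl, rfl⟩⟩
    · exact ⟨_, _, last ⟨k.val - 1, by omega⟩ k (by dsimp only; omega) (by dsimp only; omega) h⟩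
  obtain ⟨Φ, hΦ⟩ := exists_hom_of_sc spSys_nondeg spSys_grp spSys_sc hS (r3_of_simple fun k c d hc hd => by
    obtain ⟨φ, r, e⟩ := ex k
    have : ∀ c, S.h ((rootC n).simple k) c = φ ((spSys 2 F).h r c) := fun c => by
      simp only [StSys.h, StSys.n, map_mul, (hS' k).1, (hS' k).2, (e _).1, (e _).2]
    rw [this, this, this, ← map_mul, spSys_r3 r c d hc hd])
  have short : ∀ (k : Fin n) h t, Φ (spEmb (emb2 k h) (xp t)) = (f k h (xp t)).1 ∧
      Φ (spEmb (emb2 k h) (xm t)) = (f k h (xm t)).1 := fun k h t => by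
    rw [(spEmb_xp k h t).1, (spEmb_xp k h t).2, hΦ, hΦ, (hS' k).1, (hS' k).2, (a1 k h).1, (a1 k h).2]
    exact ⟨rfl, rfl⟩
  have step : ∀ i (h : i + 1 < n), (∀ t, Φ (spT (bv F (.inl (emb2 i h 1))) t) = τ (.inl (emb2 i h 1)) t ∧
      Φ (spT (bv F (.inr (emb2 i h 1))) t) = τ (.inr (emb2 i h 1)) t) → ∀ x, Φ (spEmb (emb2 i h) x) = (f i h x).1 := by
    intro i h H x
    have : (spSys 2 F).grp ≤ (Φ.comp (spEmb (emb2 i h))).eqLocus ((MonoidHom.fst _ _).comp (f i h)) := by
      rw [grp_le_iff]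
      intro k t
      fin_cases k
      · exact (xp_eq t).symm ▸ (xm_eq t).symm ▸ short ⟨i, by omega⟩ h t
      · refine (spSys_x_last (n := 2) 1 (by decide) t).1.symm ▸ (spSys_x_last (n := 2) 1 (by decide) t).2.symm ▸ ?_
        exact ⟨(congrArg Φ (spEmb_T _ _ _)).trans ((H _).1.trans (congrArg Prod.fst (f1 i h (.inl 1) _)).symm),
          (congrArg Φ (spEmb_T _ _ _)).trans ((H _).2.trans (congrArg Prod.fst (f1 i h (.inr 1) _)).symm)⟩
    exact this (spSys_grp.ge (Subgroup.mem_top x))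
  have long : ∀ (d : ℕ) (j : Fin n), j.val + d + 1 = n → ∀ t, Φ (spT (bv F (.inl j)) t) = τ (.inl j) t ∧
      Φ (spT (bv F (.inr j)) t) = τ (.inr j) t := by
    intro d
    induction d with
    | zero =>
      intro j e t
      have h : ¬ j.val + 1 < n := by omega
      have k1 := hΦ ((rootC n).simple j) t
      have k2 := hΦ ((rootC n).neg ((rootC n).simple j)) (-t)
      rw [(spSys_x_last j h _).1, (hS' j).1, (a2 j h).1] at k1
      rw [(spSys_x_last j h _).2, (hS' j).2, (a2 j h).2] at k2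
      exact ⟨by simpa using k1, by simpa using k2⟩
    | succ d ih =>
      intro j e t
      have h : j.val + 1 < n := by omega
      have := step j h (ih _ (by change j.val + 1 + d + 1 = n; omega))
      exact ⟨(congrArg Φ (spEmb_T (emb2 j h) (.inl 0) t)).symm.trans ((this _).trans (congrArg Prod.fst (f1 _ h _ _))),
        (congrArg Φ (spEmb_T (emb2 j h) (.inr 0) t)).symm.trans ((this _).trans (congrArg Prod.fst (f1 _ h _ _)))⟩
  have long' := fun j : Fin n => long (n - j.val - 1) j (by omega)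
  refine ⟨Φ, ?_, fun i h t => ?_⟩
  · rintro (j | j) t
    exacts [(long' j t).1, (long' j t).2]
  · rw [← spEmb_M, step i h (long' _), f2]

end CfsgLib.CT
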